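import Cfsg.Prelude.Def_CaseTheorems
import Cfsg.Prelude.Def_Involutions

set_option autoImplicit false

namespace Cfsg.Agent.Gate

/-- Hypothesis class: a simple group of characteristic 2 type and 2-rank at least 3 with solvable
2-local subgroups has a strongly embedded subgroup or looks like the Tits group. -/
class NgAmalgam.{u} : Prop where
  out : ∀ {G : Type u} [Group G] [Finite G] [IsSimpleGroup G], ¬ IsMulCommutative G →
    (∀ N : Subgroup G, Cfsg.IsTwoLocal N → Group.IsSolvable N) →
    Cfsg.IsCharacteristicTwoType G → ¬ Cfsg.PRankLE 2 2 G →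
    (∃ H : Subgroup G, Cfsg.IsStronglyEmbedded H) ∨
      (Nat.card G = 17971200 ∧ (∃ H : Subgroup G, H ≠ ⊤ ∧ ¬ Group.IsSolvable H) ∧ ¬ Cfsg.PRankLE 2 4 G)

end Cfsg.Agent.Gate
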