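import Cfsg.Prelude.Def_CaseTheorems
import Cfsg.Prelude.Def_Involutions

set_option autoImplicit false

namespace Cfsg.Agent.Gate

/-- Hypothesis class: a simple group of 2-rank at least 3 with solvable involution centralizers has a
strongly embedded subgroup or is of characteristic 2 type. -/
class NgChar2.{u} : Prop where
  out : ∀ {G : Type u} [Group G] [Finite G] [IsSimpleGroup G], ¬ IsMulCommutative G →
    (∀ t : G, orderOf t = 2 → Group.IsSolvable (Subgroup.centralizer ({t} : Set G))) →
    ¬ Cfsg.PRankLE 2 2 G →
    (∃ H : Subgroup G, Cfsg.IsStronglyEmbedded H) ∨ Cfsg.IsCharacteristicTwoType G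

end Cfsg.Agent.Gate
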