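import Cfsg.Prelude.Def_CaseTheorems
import Cfsg.Prelude.Def_Classical

set_option autoImplicit false

namespace Cfsg.Agent.Gate

/-- Hypothesis class: a simple group with wreathed Sylow 2-subgroups and solvable involution
centralizers is `PSU₃(3)`. -/
class NgWr.{u} : Prop where
  out : ∀ {G : Type u} [Group G] [Finite G] [IsSimpleGroup G] (S : Sylow 2 G),
    Cfsg.IsWreathed ↥(S : Subgroup G) →
    (∀ t : G, orderOf t = 2 → Group.IsSolvable (Subgroup.centralizer ({t} : Set G))) →
    ∃ (F : Type) (_ : Field F) (_ : Fintype F), Fintype.card F = 9 ∧ Nonempty (G ≃* Cfsg.PSU 3 F 3)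

end Cfsg.Agent.Gate
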