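import Cfsg.Agent.Ngrp.AmDefs

set_option autoImplicit false

namespace Cfsg.Agent.Gate
open Cfsg.Lib.Ngrp Cfsg.Lib.Trans

/-- Hypothesis class: the shape of `M₁₂` does not occur. -/
class NgM12.{u} : Prop where
  out : ∀ {G : Type u} [Group G] [Finite G] {S : Sylow 2 G} {z : G} {Y : Subgroup G},
    NatB3 S z Y → (∀ H : Subgroup G, H.index ≠ 2) → Nat.card (natU z Y) = 8 →
    Nat.card (Subgroup.centralizer ({z} : Set G)) =
      6 * Nat.card (pCoreOf 2 (Subgroup.centralizer ({z} : Set G))) → False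

end Cfsg.Agent.Gate
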