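import Cfsg.Agent.Ngrp.AmDefs

set_option autoImplicit false

namespace Cfsg.Agent.Gate
open Cfsg.Lib.Ngrp

/-- Hypothesis class: existence of the natural geometry. -/
class NgNat.{u} : Prop where
  out : ∀ {G : Type u} [Group G] [Finite G] [IsSimpleGroup G], ¬ IsMulCommutative G → AH G →
    ¬ Cfsg.PRankLE 2 2 G → (¬ ∃ H : Subgroup G, Cfsg.IsStronglyEmbedded H) →
    ∃ (S : Sylow 2 G) (z : G) (Y : Subgroup G), NatG S z Y

end Cfsg.Agent.Gate
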