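import Cfsg.Agent.Ngrp.AmDefs

set_option autoImplicit false

namespace Cfsg.Agent.Gate
open Cfsg.Lib.Ngrp

/-- Hypothesis class: the lines through a point commute. -/
class NgT2.{u} : Prop where
  out : ∀ {G : Type u} [Group G] [Finite G] {S : Sylow 2 G} {z : G} {Y : Subgroup G},
    NatG S z Y → (∀ H : Subgroup G, H.index ≠ 2) → ¬ Cfsg.PRankLE 2 2 G →
    Cfsg.IsElementaryAbelian 2 (natU z Y)

end Cfsg.Agent.Gate
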