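import Cfsg.Agent.Ngrp.AmDefs

set_option autoImplicit false

namespace Cfsg.Agent.Gate
open Cfsg.Lib.Ngrp Cfsg.Lib.Trans

/-- Hypothesis class: the critical distance is three, and the two remaining shapes. -/
class NgT3.{u} : Prop where
  out : ∀ {G : Type u} [Group G] [Finite G] {S : Sylow 2 G} {z : G} {Y : Subgroup G},
    NatG S z Y → Cfsg.IsElementaryAbelian 2 (natU z Y) → NatB3 S z Y ∧
      ((Nat.card (natU z Y) = 8 ∧ Nat.card (Subgroup.centralizer ({z} : Set G)) =
          6 * Nat.card (pCoreOf 2 (Subgroup.centralizer ({z} : Set G)))) ∨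
        (Nat.card (natU z Y) = 32 ∧ Nat.card (Subgroup.centralizer ({z} : Set G)) =
          20 * Nat.card (pCoreOf 2 (Subgroup.centralizer ({z} : Set G)))))

end Cfsg.Agent.Gate
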