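import Cfsg.Agent.Ngrp.AmDefs

set_option autoImplicit false

namespace Cfsg.Agent.Gate
open Cfsg.Lib.Ngrp Cfsg.Lib.Trans

/-- Hypothesis class: the shape of the Tits group. -/
class NgTits.{u} : Prop where
  out : ∀ {G : Type u} [Group G] [Finite G] [IsSimpleGroup G] {S : Sylow 2 G} {z : G}
    {Y : Subgroup G}, NatB3 S z Y → Nat.card (natU z Y) = 32 →
    Nat.card (Subgroup.centralizer ({z} : Set G)) =
      20 * Nat.card (pCoreOf 2 (Subgroup.centralizer ({z} : Set G))) →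
    Nat.card G = 17971200 ∧ ∃ H : Subgroup G, H ≠ ⊤ ∧ ¬ Group.IsSolvable H

end Cfsg.Agent.Gate
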