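import Mathlib

set_option autoImplicit false

namespace Cfsg.Agent.Gate

/-- Hypothesis class: a finite group with a coprime operator group that centralises no involution
is solvable. -/
class FPFCop.{u} : Prop where
  out : ∀ {Γ : Type u} [Group Γ] [Finite Γ] {G A : Subgroup Γ},
    A ≤ Subgroup.normalizer (G : Set Γ) → (Nat.card A).Coprime (Nat.card G) →
    (∀ x ∈ G, x ∈ Subgroup.centralizer (A : Set Γ) → x * x = 1 → x = 1) → Group.IsSolvable G

end Cfsg.Agent.Gate
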