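import Cfsg.Prelude.Def_CaseTheorems
import Cfsg.Prelude.Def_Sz
import Cfsg.Prelude.Def_Classical
import Cfsg.Prelude.Def_Spor_Mathieu

set_option autoImplicit false

namespace Cfsg.Agent.Gate

/-- Hypothesis class: the non-abelian simple groups all of whose 2-local subgroups are solvable. -/
class NgMain.{u} : Prop where
  out : ∀ {G : Type u} [Group G] [Finite G] [IsSimpleGroup G], ¬ IsMulCommutative G →
    (∀ N : Subgroup G, Cfsg.IsTwoLocal N → Group.IsSolvable N) →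
    (∃ (F : Type) (_ : Field F) (_ : Fintype F), 4 ≤ Fintype.card F ∧
        Nonempty (G ≃* Matrix.ProjectiveSpecialLinearGroup (Fin 2) F)) ∨
      Cfsg.Lie.IsoSuzuki G ∨
      (∃ (F : Type) (_ : Field F) (_ : Fintype F) (q : ℕ), Fintype.card F = q ^ 2 ∧ Even q ∧ 4 ≤ q ∧
        Nonempty (G ≃* Cfsg.PSU 3 F q)) ∨
      Nonempty (G ≃* Matrix.ProjectiveSpecialLinearGroup (Fin 3) (ZMod 3)) ∨
      (∃ (F : Type) (_ : Field F) (_ : Fintype F), Fintype.card F = 9 ∧ Nonempty (G ≃* Cfsg.PSU 3 F 3)) ∨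
      Nonempty (G ≃* alternatingGroup (Fin 7)) ∨ Cfsg.Spor.IsoM11 G ∨
      (Nat.card G = 17971200 ∧ (∃ H : Subgroup G, H ≠ ⊤ ∧ ¬ Group.IsSolvable H) ∧ ¬ Cfsg.PRankLE 2 4 G)

end Cfsg.Agent.Gate
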