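import Cfsg.Agent.LXG.W6

set_option autoImplicit false

namespace Cfsg.Agent.Gate

/-- Hypothesis class: a finite simple group with a non-isolated involution `z` that is weakly
closed in the large extraspecial subgroup of order 32 of its centralizer is `U₄(2)` or `L₄(3)`. -/
class LXW2.{u} : Prop where
  out : ∀ (G : Type u) [Group G] [Finite G] [IsSimpleGroup G] (z t : G),
    Cfsg.Lib.LX.Gn.Pr z z t → Nat.card (Cfsg.Lib.Local.qOf z) = 32 →
    (∃ (F : Type) (_ : Field F) (_ : Fintype F), Fintype.card F = 4 ∧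
      ∃ m : ℕ, 4 ≤ m ∧ Nonempty (G ≃* Cfsg.PSU m F 2)) ∨
    ∃ (F : Type) (_ : Field F) (_ : Fintype F), Fintype.card F = 3 ∧
      Nonempty (G ≃* Matrix.ProjectiveSpecialLinearGroup (Fin 4) F)

end Cfsg.Agent.Gate
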