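import Cfsg.Prelude.Def_ClassificationK
import Cfsg.Prelude.Def_Spor_Conway

set_option autoImplicit false

namespace Cfsg.Agent.Gate

/-- Hypothesis class: S3124 for `n = 8` without the hypothesis on unbalanced sections. -/
class StdA8.{u} : Prop where
  out : ∀ {G : Type u} [Group G] [Finite G], oddCore G = ⊥ → HasStrongBProperty G →
    ∀ A : Subgroup G, IsStandardSubgroup A → ¬ A.Normal →
    (∀ R : Sylow 2 ↥(Subgroup.centralizer (A : Set G)),
      IsCyclic ↥(R : Subgroup ↥(Subgroup.centralizer (A : Set G)))) →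
    Nonempty (↥A ≃* ↥(alternatingGroup (Fin 8))) →
    Nonempty (↥(layer G) ≃* ↥A × ↥A) ∨ Nonempty (↥(layer G) ≃* ↥(alternatingGroup (Fin 10))) ∨
      (∃ (F : Type) (_ : Field F) (_ : Fintype F), Fintype.card F = 4 ∧
        Nonempty (↥(layer G) ≃* Matrix.ProjectiveSpecialLinearGroup (Fin 4) F)) ∨
      Spor.IsoHS ↥(layer G)

end Cfsg.Agent.Gate
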