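import Cfsg.Agent.Bmo.Defs

set_option autoImplicit false

namespace Cfsg.Agent.Gate

/-- Hypothesis class: the `2`-fusion systems of the unitary groups of small dimension. -/
class BmoU.{u, v} : Prop where
  out : Cfsg.Lib.Bmo.PsuPsl.{u, v}

end Cfsg.Agent.Gate
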