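import Cfsg.Statements.S0510
import Cfsg.Prelude.Def_Spor_Conway

set_option autoImplicit false

namespace Cfsg.Agent.Gate

/-- Hypothesis class: the statement S0510 with the McLaughlin group given up to isomorphism. -/
class L4Iso.{u, v} : Prop where
  out : ∀ {G : Type u} [Group G] [Finite G] [IsSimpleGroup G]
    {F : Type v} [Field F] [Fintype F] (_ : Odd (Fintype.card F)) (S : Sylow 2 G)
    (P : Sylow 2 (Matrix.ProjectiveSpecialLinearGroup (Fin 4) F))
    (_ : Nonempty ((S : Subgroup G) ≃* (P : Subgroup (Matrix.ProjectiveSpecialLinearGroup (Fin 4) F)))),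
    (∃ (K : Type) (_ : Field K) (_ : Fintype K), Odd (Fintype.card K) ∧
        Nonempty (G ≃* Matrix.ProjectiveSpecialLinearGroup (Fin 4) K)) ∨
      (∃ (K : Type) (_ : Field K) (_ : Fintype K) (r : ℕ), Fintype.card K = r ^ 2 ∧ Odd r ∧
        Nonempty (G ≃* Cfsg.PSU 4 K r)) ∨
      Nonempty (G ≃* alternatingGroup (Fin 10)) ∨ Nonempty (G ≃* alternatingGroup (Fin 11)) ∨
      Cfsg.IsM22 G ∨ Cfsg.IsM23 G ∨ Nonempty (G ≃* ↥Cfsg.Spor.McL)

end Cfsg.Agent.Gate
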