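import Cfsg.Agent.Class.Asch.Cases

set_option autoImplicit false

namespace Cfsg.Agent.Gate

open Cfsg.Geo Cfsg.Lib.Class.Asch

/-- Hypothesis class: the subgroup structure theorem for symplectic groups, strong form. -/
class AschSp.{u} : Prop where
  out : ∀ {ι : Type} [Fintype ι] [DecidableEq ι] {F : Type u} [Field F] [Fintype F]
    (f : (ι → F) → (ι → F) → F), IsSymplecticForm f → 4 ≤ Fintype.card ι →
    ∀ H : Subgroup (Matrix.GeneralLinearGroup ι F), H ≤ isoms f → SpCase f H

end Cfsg.Agent.Gate
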