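import Cfsg.Agent.FPF.Defs

set_option autoImplicit false

namespace Cfsg.Agent.Gate

/-- Hypothesis class: no finite simple group satisfies `FPF.Hyp`. -/
class FPFCore.{u} : Prop where
  out : ∀ {Γ : Type u} [Group Γ] [Finite Γ] {G A : Subgroup Γ}, Cfsg.Lib.FPF.Hyp G A → False

end Cfsg.Agent.Gate
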