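import Cfsg.Prelude.Def_FischerSpaces
import Cfsg.Prelude.Def_Spor_Fi22

set_option autoImplicit false

namespace Cfsg.Agent.Gate

/-- Hypothesis class (strong uniqueness of type M(22)): a primitive 3-transposition group of type M(22)
is a quotient of the presented Fischer group, the generators going to members of `D`. -/
class Fi22Y.{u} : Prop where
  out : ∀ {G : Type u} [Group G] [Finite G] {D : Set G}, Cfsg.IsThreeTranspositionGroup D →
    Cfsg.IsPrimitiveUnderConj D → Cfsg.IsOfTypeM22 G D →
    ∃ f : Cfsg.Spor.Fi22 →* G, Function.Surjective f ∧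
      ∀ x : Cfsg.Spor.Fi22.Gen, f (PresentedGroup.of x) ∈ D

end Cfsg.Agent.Gate
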