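import Cfsg.Agent.Mit.Defs

set_option autoImplicit false

namespace Cfsg.Agent.Gate

open Cfsg.Geo Cfsg.Lib.Class.Asch Cfsg.Lib.Mit

/-- Hypothesis class: irreducible subgroups of `SL₃` generated by transvections. -/
class MitTv.{u} : Prop where
  out : ∀ {F : Type u} [Field F] [Fintype F] (P : Subgroup (GL (Fin 3) F)),
    tvGen P = P → Irr P → NoSub P → P = specialLinear (Fin 3) F ∨ IsSU P ∨
      ((2 : F) = 0 ∧ ∀ S : Sylow 2 P, Nonempty ((S : Subgroup P) ≃* DihedralGroup 4) ∨
        ∃! x : (S : Subgroup P), orderOf x = 2)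

end Cfsg.Agent.Gate
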