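import Cfsg.Agent.PG.Defs2

set_option autoImplicit false

namespace Cfsg.Agent.Gate

/-- Hypothesis class: the configuration `Cfsg.Lib.PG.Last` does not occur. -/
class PGC.{u} : Prop where
  out : ∀ {X : Type u} [Group X] [Finite X] {S H₁ U H₂ D : Subgroup X} {y c : X},
    ¬ Cfsg.Lib.PG.Last S H₁ U H₂ D y c

end Cfsg.Agent.Gate
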