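import Cfsg.Agent.PG.Defs

set_option autoImplicit false

namespace Cfsg.Agent.Gate

/-- Hypothesis class: Suzuki's theorem on odd components of the prime graph of a simple group. -/
class PGD.{u} : Prop where
  out : ∀ {G : Type u} [Group G] [Finite G] [IsSimpleGroup G] {Δ : Set ℕ},
    ¬ IsMulCommutative G → Cfsg.Lib.PG.Comp G Δ →
    (∃ H : Subgroup G, Cfsg.Lib.PG.Isol Δ H) ∨
      ∃ P U Q V W₁ W₂ : Subgroup G, Cfsg.Lib.PG.Special Δ P U Q V W₁ W₂

end Cfsg.Agent.Gate
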