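import Cfsg.Agent.PG.Defs

set_option autoImplicit false

namespace Cfsg.Agent.Gate

/-- Hypothesis class: a group with a normal subgroup of prime index `s`, where `s` is separated
from `2` in the prime graph, is solvable. -/
class PGO.{u} : Prop where
  out : ∀ {X : Type u} [Group X] [Finite X] {Δ : Set ℕ} (S : Subgroup X) [S.Normal],
    Cfsg.Lib.PG.Sep X Δ → 2 ∉ Δ → S.index.Prime → S.index ∈ Δ → Group.IsSolvable X

end Cfsg.Agent.Gate
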