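import Cfsg.Prelude.Def_Quasithin
import Cfsg.Prelude.Def_KGroupFacts

set_option autoImplicit false

namespace Cfsg.Agent.Gate

/-- Hypothesis class: outer automorphisms of the known simple groups with a strongly quasithin
central extension by a group of odd order. -/
class QTOut.{u} : Prop where
  out : ∀ {X K : Type u} [Group X] [Group K] [Finite X] [IsSimpleGroup K] (f : X →* K),
    Function.Surjective f → f.ker ≤ Subgroup.center X → Odd (Nat.card f.ker) →
    ¬ IsMulCommutative K → Cfsg.IsKnownSimple' K → Cfsg.IsStronglyQuasithin X →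
    ∃ (N : Subgroup (Cfsg.Out K)) (_ : N.Normal), Group.IsSolvable N ∧
      (∀ p : ℕ, p.Prime → p ∣ Nat.card N → p ∣ Nat.card K) ∧ IsCyclic (Cfsg.Out K ⧸ N)

end Cfsg.Agent.Gate
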